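import Cfsg.Agent.LargeExtra.Nine.Iface
import Cfsg.Agent.LargeExtra.KillNine.Pts
set_option linter.all false

-- part: TypeO8Plus/Frame
section
/-!
# `Ω₈⁺(2)`: the frame (helper260)

`V = Q / ⟨z⟩ = V₁ ⊗ V₂ ⊗ V₃`, `Vᵢ = {0, ∞, 0+∞} ∪ {0}`.  The eight generators of `Q` (codes in the coordinates of
`confOplus`): `a = ∞∞∞` (1), `h 0 = 0∞∞` (2), `h 1 = ∞0∞` (4), `h 2 = ∞∞0` (8), `e = 000` (16),
`p 0 = ∞00` (32), `p 1 = 0∞0` (64), `p 2 = 00∞` (128).  `x i` is the transvection `0 ↦ 0 + ∞` and `w i` the swap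
`0 ↔ ∞` in the `i`-th coordinate, `s` swaps `z` and `a`.  In the language of `D₄`: `z` = highest root,
`e, x 0, x 1, x 2` = fundamental roots (`e` the central node), `p i = e + x i`, `h i = e + x (i+1) + x (i+2)`,
`a = e + x 0 + x 1 + x 2`; `s, w 0, w 1, w 2` = fundamental reflections.

For `i : Fin 3` the other two indices are `i + 1`, `i + 2`.
-/

set_option autoImplicit false

namespace Cfsg.Agent.TypeO8Plus

open Cfsg.Agent.Co2Type.Quad Cfsg.Agent.LargeExtra.Base Cfsg.Agent.LargeExtra.Nine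

/-- The elements of a frame. -/
structure El (G : Type*) where
  z : G
  a : G
  h : Fin 3 → G
  e : G
  p : Fin 3 → G
  x : Fin 3 → G
  w : Fin 3 → G
  s : G

variable {G : Type*} [Group G]

/-- The relations between the generators of `Q`. -/
structure QRel (E : El G) : Prop where
  z_ne : E.z ≠ 1
  zz : E.z * E.z = 1
  aa : E.a * E.a = 1
  hh : ∀ i, E.h i * E.h i = 1
  ee : E.e * E.e = 1
  pp : ∀ i, E.p i * E.p i = 1
  za : E.z * E.a = E.a * E.z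
  zh : ∀ i, E.z * E.h i = E.h i * E.z
  ze : E.z * E.e = E.e * E.z
  zp : ∀ i, E.z * E.p i = E.p i * E.z
  ah : ∀ i, E.a * E.h i = E.h i * E.a
  ap : ∀ i, E.a * E.p i = E.p i * E.a
  hh' : ∀ i j, E.h i * E.h j = E.h j * E.h i
  eh : ∀ i, E.e * E.h i = E.h i * E.e
  ep : ∀ i, E.e * E.p i = E.p i * E.e
  pp' : ∀ i j, E.p i * E.p j = E.p j * E.p i
  hp : ∀ i j, i ≠ j → E.h i * E.p j = E.p j * E.h i
  /-- the non-commuting pairs -/
  ea : E.e * E.a = E.a * E.e * E.z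
  ph : ∀ i, E.p i * E.h i = E.h i * E.p i * E.z

/-- The action of `x i`. -/
structure XRel (E : El G) : Prop where
  z : ∀ i, E.x i * E.z * (E.x i)⁻¹ = E.z
  a : ∀ i, E.x i * E.a * (E.x i)⁻¹ = E.a
  h : ∀ i, E.x i * E.h i * (E.x i)⁻¹ = E.h i * E.a
  h1 : ∀ i, E.x i * E.h (i + 1) * (E.x i)⁻¹ = E.h (i + 1)
  h2 : ∀ i, E.x i * E.h (i + 2) * (E.x i)⁻¹ = E.h (i + 2)
  e : ∀ i, E.x i * E.e * (E.x i)⁻¹ = E.e * E.p i
  p : ∀ i, E.x i * E.p i * (E.x i)⁻¹ = E.p i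
  p1 : ∀ i, E.x i * E.p (i + 1) * (E.x i)⁻¹ = E.p (i + 1) * E.h (i + 2)
  p2 : ∀ i, E.x i * E.p (i + 2) * (E.x i)⁻¹ = E.p (i + 2) * E.h (i + 1)

/-- The action of `w i`. -/
structure WRel (E : El G) : Prop where
  z : ∀ i, E.w i * E.z * (E.w i)⁻¹ = E.z
  a : ∀ i, E.w i * E.a * (E.w i)⁻¹ = E.h i
  h : ∀ i, E.w i * E.h i * (E.w i)⁻¹ = E.a
  h1 : ∀ i, E.w i * E.h (i + 1) * (E.w i)⁻¹ = E.p (i + 2)
  h2 : ∀ i, E.w i * E.h (i + 2) * (E.w i)⁻¹ = E.p (i + 1)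
  e : ∀ i, E.w i * E.e * (E.w i)⁻¹ = E.p i
  p : ∀ i, E.w i * E.p i * (E.w i)⁻¹ = E.e
  p1 : ∀ i, E.w i * E.p (i + 1) * (E.w i)⁻¹ = E.h (i + 2)
  p2 : ∀ i, E.w i * E.p (i + 2) * (E.w i)⁻¹ = E.h (i + 1)

/-- The action of `s`. -/
structure SRel (E : El G) : Prop where
  z : E.s * E.z * E.s⁻¹ = E.a
  a : E.s * E.a * E.s⁻¹ = E.z
  h : ∀ i, E.s * E.h i * E.s⁻¹ = E.h i
  p : ∀ i, E.s * E.p i * E.s⁻¹ = E.x i
  x : ∀ i, E.s * E.x i * E.s⁻¹ = E.p i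

/-- The Coxeter-type relations. -/
structure WeylRel (E : El G) : Prop where
  ss : E.s * E.s = 1
  xx : ∀ i, E.x i * E.x i = 1
  ww : ∀ i, E.w i * E.w i = 1
  se : E.s * E.e * E.s = E.e * E.s * E.e
  xw : ∀ i, E.x i * E.w i * E.x i = E.w i * E.x i * E.w i
  sw : ∀ i, E.s * E.w i * E.s = E.w i * E.s * E.w i
  xx' : ∀ i j, E.x i * E.x j = E.x j * E.x i
  xw' : ∀ i j, i ≠ j → E.x i * E.w j = E.w j * E.x i
  ww' : ∀ i j, E.w i * E.w j = E.w j * E.w i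

/-- The frame: everything exact. -/
structure Frame {Q A : Subgroup G} {z a : G} (p : Pair Q z A a) (φ : Coord p.lz) (E : El G) : Prop where
  z : E.z = z
  a : E.a = a
  h_mem : ∀ i, E.h i ∈ Q
  e_mem : E.e ∈ Q
  p_mem : ∀ i, E.p i ∈ Q
  h_code : ∀ i : Fin 3, φ.e (p.lz.pr ⟨E.h i, h_mem i⟩) = vec (2 ^ (i.1 + 1))
  e_code : φ.e (p.lz.pr ⟨E.e, e_mem⟩) = vec 16
  p_code : ∀ i : Fin 3, φ.e (p.lz.pr ⟨E.p i, p_mem i⟩) = vec (2 ^ (i.1 + 5))
  x_mem : ∀ i, E.x i ∈ A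
  Q_rel : QRel E
  X_rel : XRel E
  W_rel : WRel E
  S_rel : SRel E
  weyl : WeylRel E

/-- `C₀ = Q (L₁ × L₂ × L₃)` -/
def C0 (Q : Subgroup G) (E : El G) : Subgroup G := Q ⊔ Subgroup.closure (Set.range E.x ∪ Set.range E.w)

/-- `G₀ = ⟨C₀, s⟩` -/
def G0 (Q : Subgroup G) (E : El G) : Subgroup G := C0 Q E ⊔ Subgroup.zpowers E.s

/-- `M = G₀ C_G(z)` -/
def MM (Q : Subgroup G) (E : El G) : Subgroup G := G0 Q E ⊔ Subgroup.centralizer {E.z}

/-- `t` acts as the permutation `π` of the three coordinates. -/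
structure IsPerm (E : El G) (π : Equiv.Perm (Fin 3)) (t : G) : Prop where
  z : t * E.z * t⁻¹ = E.z
  a : t * E.a * t⁻¹ = E.a
  e : t * E.e * t⁻¹ = E.e
  s : t * E.s * t⁻¹ = E.s
  h : ∀ i, t * E.h i * t⁻¹ = E.h (π i)
  p : ∀ i, t * E.p i * t⁻¹ = E.p (π i)
  x : ∀ i, t * E.x i * t⁻¹ = E.x (π i)
  w : ∀ i, t * E.w i * t⁻¹ = E.w (π i)

end Cfsg.Agent.TypeO8Plus
end

-- part: LargeExtra/KillNine/PtsOplus
section
/-!
# The conjugates of `z` in `Q` for `confOplus` (helper441, generated)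
-/

set_option autoImplicit false
set_option maxRecDepth 1000000

namespace Cfsg.Agent.LargeExtra.KillNine.PtsOplus

open Cfsg.Agent.Co2Type.Quad Cfsg.Agent.LargeExtra.Base Cfsg.Agent.LargeExtra.Nine
open Cfsg.Agent.LargeExtra.KillNine.Pts Cfsg.Agent.LargeExtra.KillNine.Codes

variable {G : Type*} [Group G] {Q A : Subgroup G} {z a : G}

def g0 : List ℕ := [1,2,4,9,144,36,66,128]
def g1 : List ℕ := [1,2,5,8,80,40,64,130]
def g2 : List ℕ := [1,3,4,8,48,32,72,132]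
def g3 : List ℕ := [3,2,132,72,16,48,64,128]
def g4 : List ℕ := [5,130,4,40,16,32,80,128]
def g5 : List ℕ := [9,66,36,8,16,32,64,144]
def g6 : List ℕ := [1,4,2,9,144,66,36,128]
def g7 : List ℕ := [1,2,8,4,16,32,128,64]

/-- the points of `confOplus` -/
def orb : List ℕ := [
    1, 2, 3, 4, 5, 8, 9, 16, 32, 36, 40, 45, 48, 64, 66, 72, 75, 80, 120, 128, 130, 132, 135, 144,
    180, 210, 255]

def s0_0 : List ℕ := [135,130,132,120,16,48,80,128]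
def s0_1 : List ℕ := [135,3,5,255,9,45,75,1]
def s0_2 : List ℕ := [128,132,130,144,255,210,180,135]

def T0 : List (ℕ × List ℕ × List ℕ) := [
  (6,idL,idL), (7,[1,2,5,8,80,40,64,130],[1,2,5,8,80,40,64,130]),
  (134,[3,2,132,72,16,48,64,128],[3,2,132,72,16,48,64,128]),
  (102,[9,66,36,8,16,32,64,144],[9,66,36,8,16,32,64,144]),
  (10,[1,2,8,4,16,32,128,64],[1,2,8,4,16,32,128,64]),
  (133,[3,2,135,72,80,120,64,130],[3,2,135,72,80,120,64,130]),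
  (131,[5,130,1,40,64,8,80,2],[4,128,5,32,80,40,16,130]),
  (111,[9,66,45,8,80,40,64,210],[9,66,45,8,80,40,64,210]),
  (11,[1,2,9,4,144,36,128,66],[1,2,8,5,80,40,130,64]),
  (246,[75,66,180,72,16,48,64,144],[75,66,180,72,16,48,64,144]),
  (74,[3,2,72,132,16,48,128,64],[3,2,72,132,16,48,128,64]),
  (96,[8,64,32,9,144,36,66,16],[9,66,36,1,128,4,2,144]),
  (170,[5,130,40,4,16,32,128,80],[9,66,8,36,16,32,144,64]),
  (13,[1,4,9,2,144,66,128,36],[1,8,2,5,80,130,40,64]),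
  (129,[2,3,130,64,120,80,72,135],[3,1,135,72,40,120,8,5]),
  (189,[75,66,255,72,80,120,64,210],[75,66,255,72,80,120,64,210]),
  (73,[3,2,75,132,144,180,128,66],[3,2,72,135,80,120,130,64]),
  (219,[45,210,9,40,64,8,80,66],[36,144,45,32,80,40,16,210]),
  (67,[9,66,1,36,128,4,144,2],[4,128,32,5,80,40,130,16]),
  (104,[8,64,40,9,210,45,66,80],[9,66,45,1,130,5,2,210]),
  (175,[5,130,45,4,144,36,128,210],[9,66,8,45,80,40,210,64]),
  (12,[1,4,8,2,16,64,128,32],[1,8,2,4,16,128,32,64]),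
  (112,[72,64,48,75,144,180,66,16],[75,66,180,3,128,132,2,144]),
  (250,[135,130,120,132,16,48,128,80],[75,66,72,180,16,48,144,64]),
  (41,[5,4,45,130,144,210,128,36],[3,72,2,135,80,130,120,64]),
  (160,[4,128,32,5,80,40,130,16],[9,66,1,36,128,4,144,2]),
  (207,[3,132,75,2,144,66,128,180],[9,8,66,45,80,210,40,64]),
  (37,[9,36,1,66,128,2,144,4],[4,32,128,5,80,130,40,16]),
  (153,[66,75,210,64,120,80,72,255],[75,9,255,72,40,120,8,45]),
  (65,[2,3,66,128,180,144,132,75],[3,1,72,135,40,120,5,8]),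
  (56,[72,64,120,75,210,255,66,80],[75,66,255,3,130,135,2,210]),
  (88,[40,32,120,45,180,255,36,48],[75,255,66,3,130,2,135,210]),
  (125,[135,130,255,132,144,180,128,210],[75,66,72,255,80,120,210,64]),
  (44,[5,4,40,130,16,80,128,32],[3,72,2,132,16,128,48,64]),
  (215,[45,210,5,36,128,4,144,130],[36,144,32,45,80,40,210,16]),
  (33,[8,32,1,64,128,2,16,4],[4,32,128,1,64,2,8,16]),
  (164,[4,128,36,5,210,45,130,144],[9,66,1,45,130,5,210,2]),
  (204,[3,132,72,2,16,64,128,48],[9,8,66,36,16,144,32,64]),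
  (176,[132,128,48,135,80,120,130,16],[75,66,3,180,128,132,144,2]),
  (123,[135,132,255,130,144,210,128,180],[75,72,66,255,80,210,120,64]),
  (194,[2,128,66,3,180,75,132,144],[9,1,66,45,130,210,5,2]),
  (183,[75,180,3,66,128,2,144,132],[36,32,144,45,80,210,40,16]),
  (24,[64,72,80,66,255,210,75,120],[75,9,255,3,5,135,1,45]),
  (85,[130,135,210,128,180,144,132,255],[75,9,72,255,40,120,45,8]),
  (52,[132,128,180,135,210,255,130,144],[75,66,3,255,130,135,210,2]),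
  (148,[36,32,180,45,120,255,40,48],[75,255,3,66,130,2,210,135]),
  (252,[135,132,120,130,16,80,128,48],[75,72,66,180,16,144,48,64]),
  (51,[72,48,3,64,128,2,16,132],[36,32,144,9,64,66,8,16]),
  (192,[2,128,64,3,48,72,132,16],[9,1,66,36,128,144,4,2]),
  (82,[130,128,210,135,180,255,132,144],[75,3,66,255,130,210,135,2]),
  (146,[66,144,2,75,132,3,180,128],[36,4,144,45,130,210,5,128]),
  (20,[128,132,144,130,255,210,135,180],[75,9,3,255,5,135,45,1]),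
  (208,[130,128,80,135,48,120,132,16],[75,3,66,180,128,144,132,2]),
  (18,[64,66,80,72,255,120,75,210],[75,3,255,9,5,45,1,135])]

def L0 : List (List ℕ × List (List ℕ)) := [
  (idL,[]), ([135,3,5,255,9,45,75,1],[s0_1]), ([135,130,132,120,16,48,80,128],[s0_0]),
  ([128,132,130,144,255,210,180,135],[s0_2]), ([1,5,3,9,255,75,45,135],[s0_1,s0_0]),
  ([135,5,3,120,8,72,40,1],[s0_2,s0_2]), ([128,2,4,144,9,36,66,1],[s0_0,s0_1]),
  ([1,3,5,9,255,45,75,135],[s0_0,s0_2]), ([1,4,2,8,16,64,32,128],[s0_1,s0_2]),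
  ([128,4,2,144,9,66,36,1],[s0_2,s0_0]), ([128,132,130,16,120,80,48,135],[s0_1,s0_1]),
  ([1,2,4,9,144,36,66,128],[s0_2,s0_2,s0_2]), ([128,130,132,144,255,180,210,135],[s0_0,s0_1,s0_0]),
  ([128,2,4,16,8,32,64,1],[s0_1,s0_0,s0_2]), ([135,132,130,120,16,80,48,128],[s0_0,s0_1,s0_2]),
  ([128,4,2,16,8,64,32,1],[s0_0,s0_2,s0_2]), ([1,3,5,8,120,40,72,135],[s0_0,s0_1,s0_1]),
  ([1,5,3,8,120,72,40,135],[s0_2,s0_0,s0_1]), ([1,4,2,9,144,66,36,128],[s0_1,s0_1,s0_1]),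
  ([135,5,3,255,9,75,45,1],[s0_0,s0_2,s0_0]),
  ([135,130,132,255,144,180,210,128],[s0_0,s0_2,s0_2,s0_2]),
  ([128,130,132,16,120,48,80,135],[s0_0,s0_2,s0_0,s0_1]),
  ([135,3,5,120,8,40,72,1],[s0_0,s0_1,s0_0,s0_2]),
  ([135,132,130,255,144,210,180,128],[s0_0,s0_1,s0_1,s0_1])]

def W0 : List (ℕ × List (List ℕ)) := [
  (6,[]), (7,[g1]), (134,[g3]), (102,[g5]), (133,[g1,g3]), (131,[g1,g4]), (111,[g1,g5]),
  (246,[g3,g5]), (96,[g5,g0]), (129,[g1,g3,g2]), (189,[g1,g3,g5]), (219,[g1,g4,g5]),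
  (104,[g1,g5,g0]), (112,[g3,g5,g0]), (153,[g1,g3,g2,g5]), (56,[g1,g3,g5,g0]), (88,[g1,g4,g5,g0]),
  (24,[g1,g3,g2,g5,g0])]

def t0 : PtData where
  r := 6
  T := T0
  S := [s0_0, s0_1, s0_2]
  L := L0
  W := W0
  C := [([g1,g2], [g1,g2])]

theorem check0 : PtCheck (confOplus.X ++ confOplus.N ++ confOplus.M) (confOplus.X ++ confOplus.N) t0 := by
  constructor <;> decide +kernel

def s1_0 : List ℕ := [75,72,255,66,80,210,64,120]
def s1_1 : List ℕ := [64,66,16,72,180,48,75,144]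
def s1_2 : List ℕ := [75,3,255,9,5,45,1,135]

def T1 : List (ℕ × List ℕ × List ℕ) := [
  (10,idL,idL), (11,[1,2,4,9,144,36,66,128],[1,2,4,9,144,36,66,128]),
  (74,[3,2,132,72,16,48,64,128],[3,2,132,72,16,48,64,128]),
  (170,[5,130,4,40,16,32,80,128],[5,130,4,40,16,32,80,128]),
  (13,[1,4,2,9,144,66,36,128],[1,4,2,9,144,66,36,128]),
  (6,[1,2,8,4,16,32,128,64],[1,2,8,4,16,32,128,64]),
  (73,[3,2,132,75,144,180,66,128],[3,2,132,75,144,180,66,128]),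
  (175,[5,130,4,45,144,36,210,128],[5,130,4,45,144,36,210,128]),
  (67,[9,66,36,1,128,4,2,144],[8,64,32,9,144,36,66,16]),
  (12,[1,4,2,8,16,64,32,128],[1,4,2,8,16,64,32,128]),
  (7,[1,2,8,5,80,40,130,64],[1,2,9,4,144,36,128,66]),
  (250,[135,130,132,120,16,48,80,128],[135,130,132,120,16,48,80,128]),
  (41,[5,4,130,45,144,210,36,128],[3,132,2,75,144,66,180,128]),
  (134,[3,2,72,132,16,48,128,64],[3,2,72,132,16,48,128,64]),
  (160,[4,128,5,32,80,40,16,130],[5,130,1,40,64,8,80,2]),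
  (207,[3,132,2,75,144,66,180,128],[5,4,130,45,144,210,36,128]),
  (102,[9,66,8,36,16,32,144,64],[5,130,40,4,16,32,128,80]),
  (37,[9,36,66,1,128,2,4,144],[8,32,64,9,144,66,36,16]),
  (65,[2,3,128,66,180,144,75,132],[3,1,132,75,36,180,9,4]),
  (125,[135,130,132,255,144,180,210,128],[135,130,132,255,144,180,210,128]),
  (44,[5,4,130,40,16,80,32,128],[3,132,2,72,16,64,48,128]),
  (133,[3,2,72,135,80,120,130,64],[3,2,75,132,144,180,128,66]),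
  (164,[4,128,5,36,210,45,144,130],[5,130,1,45,66,9,210,2]),
  (215,[45,210,36,5,128,4,130,144],[40,80,32,45,144,36,210,16]),
  (204,[3,132,2,72,16,64,48,128],[5,4,130,40,16,80,32,128]),
  (111,[9,66,8,45,80,40,210,64],[5,130,45,4,144,36,128,210]),
  (33,[8,32,64,1,128,2,4,16],[8,32,64,1,128,2,4,16]),
  (131,[5,130,40,1,64,8,2,80],[8,64,9,32,144,36,16,66]),
  (176,[132,128,135,48,80,120,16,130],[135,130,3,120,64,72,80,2]),
  (123,[135,132,130,255,144,210,180,128],[135,132,130,255,144,210,180,128]),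
  (246,[75,66,72,180,16,48,144,64],[135,130,120,132,16,48,128,80]),
  (194,[2,128,3,66,180,75,144,132],[5,1,130,45,66,210,9,2]),
  (96,[8,64,9,32,144,36,16,66],[5,130,40,1,64,8,2,80]),
  (183,[75,180,66,3,128,2,132,144],[40,32,80,45,144,210,36,16]),
  (85,[130,135,128,210,180,144,255,132],[135,5,132,255,36,180,45,4]),
  (129,[2,3,64,130,120,80,135,72],[3,1,75,132,36,180,4,9]),
  (52,[132,128,135,180,210,255,144,130],[135,130,3,255,66,75,210,2]),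
  (252,[135,132,130,120,16,80,48,128],[135,132,130,120,16,80,48,128]),
  (189,[75,66,72,255,80,120,210,64],[135,130,255,132,144,180,128,210]),
  (148,[36,144,45,4,130,5,128,210],[40,80,8,45,66,9,210,64]),
  (192,[2,128,3,64,48,72,16,132],[5,1,130,40,64,80,8,2]),
  (104,[8,64,9,40,210,45,80,66],[5,130,45,1,66,9,2,210]),
  (51,[72,48,64,3,128,2,132,16],[40,32,80,5,128,130,4,16]),
  (219,[45,210,40,9,64,8,66,80],[40,80,45,32,144,36,16,210]),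
  (82,[130,128,135,210,180,255,144,132],[135,3,130,255,66,210,75,2]),
  (112,[72,64,75,48,144,180,16,66],[135,130,120,3,64,72,2,80]),
  (146,[66,144,75,2,132,3,128,180],[40,8,80,45,66,210,9,64]),
  (20,[128,132,130,144,255,210,180,135],[135,5,3,255,9,75,45,1]),
  (153,[66,75,64,210,120,80,255,72],[135,5,255,132,36,180,4,45]),
  (208,[130,128,135,80,48,120,16,132],[135,3,130,120,64,80,72,2]),
  (56,[72,64,75,120,210,255,80,66],[135,130,255,3,66,75,2,210]),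
  (88,[40,32,45,120,180,255,48,36],[135,255,130,3,66,2,75,210]),
  (18,[64,16,72,2,132,3,128,48],[40,8,80,5,2,130,1,64]),
  (24,[64,72,66,80,255,210,120,75],[135,5,255,3,9,75,1,45])]

def L1 : List (List ℕ × List (List ℕ)) := [
  (idL,[]), ([75,3,255,9,5,45,1,135],[s1_2]), ([75,72,255,66,80,210,64,120],[s1_0]),
  ([64,66,16,72,180,48,75,144],[s1_1]), ([1,2,5,8,80,40,64,130],[s1_1,s1_2]),
  ([64,8,80,2,5,130,1,40],[s1_1,s1_0]), ([64,72,16,66,180,144,75,48],[s1_2,s1_2]),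
  ([1,3,5,9,255,45,75,135],[s1_0,s1_1]), ([64,8,16,2,4,128,1,32],[s1_0,s1_2]),
  ([75,9,180,3,4,132,1,36],[s1_1,s1_1]), ([1,3,4,9,180,36,75,132],[s1_2,s1_0]),
  ([1,8,5,2,80,130,64,40],[s1_2,s1_2,s1_2]), ([75,3,180,9,4,36,1,132],[s1_0,s1_1,s1_0]),
  ([64,2,16,8,4,32,1,128],[s1_2,s1_0,s1_1]), ([1,9,5,3,255,135,75,45],[s1_0,s1_2,s1_2]),
  ([1,8,4,2,16,128,64,32],[s1_1,s1_1,s1_1]), ([75,72,180,66,16,144,64,48],[s1_0,s1_1,s1_2]),
  ([1,9,4,3,180,132,75,36],[s1_1,s1_0,s1_2]), ([64,2,80,8,5,40,1,130],[s1_0,s1_1,s1_1]),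
  ([64,66,80,72,255,120,75,210],[s1_0,s1_2,s1_0]),
  ([64,72,80,66,255,210,75,120],[s1_0,s1_1,s1_0,s1_2]),
  ([75,9,255,3,5,135,1,45],[s1_0,s1_2,s1_0,s1_1]),
  ([75,66,255,72,80,120,64,210],[s1_0,s1_1,s1_1,s1_1]),
  ([75,66,180,72,16,48,64,144],[s1_0,s1_2,s1_2,s1_2])]

def W1 : List (ℕ × List (List ℕ)) := [
  (10,[]), (11,[g0]), (74,[g3]), (170,[g4]), (73,[g0,g3]), (175,[g0,g4]), (67,[g0,g5]),
  (250,[g3,g4]), (160,[g4,g1]), (65,[g0,g3,g2]), (125,[g0,g3,g4]), (164,[g0,g4,g1]),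
  (215,[g0,g4,g5]), (176,[g3,g4,g1]), (85,[g0,g3,g2,g4]), (52,[g0,g3,g4,g1]), (148,[g0,g4,g1,g5]),
  (20,[g0,g3,g2,g4,g1])]

def t1 : PtData where
  r := 10
  T := T1
  S := [s1_0, s1_1, s1_2]
  L := L1
  W := W1
  C := [([g0,g2], [g0,g2])]

theorem check1 : PtCheck (confOplus.X ++ confOplus.N ++ confOplus.M) (confOplus.X ++ confOplus.N) t1 := by
  constructor <;> decide +kernel

def s2_0 : List ℕ := [32,48,40,36,255,45,180,120]
def s2_1 : List ℕ := [1,2,9,5,210,45,130,66]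
def s2_2 : List ℕ := [45,255,5,9,3,1,75,135]

def T2 : List (ℕ × List ℕ × List ℕ) := [
  (12,idL,idL), (13,[1,2,4,9,144,36,66,128],[1,2,4,9,144,36,66,128]),
  (204,[3,2,132,72,16,48,64,128],[3,2,132,72,16,48,64,128]),
  (44,[5,130,4,40,16,32,80,128],[5,130,4,40,16,32,80,128]),
  (11,[1,4,2,9,144,66,36,128],[1,4,2,9,144,66,36,128]),
  (207,[3,2,132,75,144,180,66,128],[3,2,132,75,144,180,66,128]),
  (41,[5,130,4,45,144,36,210,128],[5,130,4,45,144,36,210,128]),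
  (37,[9,66,36,1,128,4,2,144],[8,64,32,9,144,36,66,16]),
  (10,[1,4,2,8,16,64,32,128],[1,4,2,8,16,64,32,128]),
  (192,[2,3,128,64,48,16,72,132],[3,1,132,72,32,48,8,4]),
  (252,[135,130,132,120,16,48,80,128],[135,130,132,120,16,48,80,128]),
  (175,[5,4,130,45,144,210,36,128],[3,132,2,75,144,66,180,128]),
  (73,[3,132,2,75,144,66,180,128],[5,4,130,45,144,210,36,128]),
  (67,[9,36,66,1,128,2,4,144],[8,32,64,9,144,66,36,16]),
  (7,[1,8,2,5,80,130,40,64],[1,4,9,2,144,66,128,36]),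
  (194,[2,3,128,66,180,144,75,132],[3,1,132,75,36,180,9,4]),
  (123,[135,130,132,255,144,180,210,128],[135,130,132,255,144,180,210,128]),
  (183,[75,66,180,3,128,132,2,144],[72,64,48,75,144,180,66,16]),
  (170,[5,4,130,40,16,80,32,128],[3,132,2,72,16,64,48,128]),
  (33,[4,128,5,36,210,45,144,130],[5,130,1,45,66,9,210,2]),
  (74,[3,132,2,72,16,64,48,128],[5,4,130,40,16,80,32,128]),
  (65,[8,32,64,1,128,2,4,16],[8,32,64,1,128,2,4,16]),
  (6,[1,8,2,4,16,128,32,64],[1,4,8,2,16,64,128,32]),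
  (208,[130,135,128,80,48,16,120,132],[135,5,132,120,32,48,40,4]),
  (164,[4,5,128,36,210,144,45,130],[3,132,1,75,36,9,180,4]),
  (125,[135,132,130,255,144,210,180,128],[135,132,130,255,144,210,180,128]),
  (215,[45,36,210,5,128,130,4,144],[72,48,64,75,144,66,180,16]),
  (111,[9,8,66,45,80,210,40,64],[3,132,75,2,144,66,128,180]),
  (133,[3,72,2,135,80,130,120,64],[5,4,45,130,144,210,128,36]),
  (131,[5,40,130,1,64,2,8,80],[8,32,9,64,144,66,16,36]),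
  (82,[130,135,128,210,180,144,255,132],[135,5,132,255,36,180,45,4]),
  (146,[66,75,144,2,132,128,3,180],[72,8,48,75,36,180,9,32]),
  (160,[4,5,128,32,80,16,40,130],[3,132,1,72,32,8,48,4]),
  (51,[132,128,135,180,210,255,144,130],[135,130,3,255,66,75,210,2]),
  (250,[135,132,130,120,16,80,48,128],[135,132,130,120,16,80,48,128]),
  (85,[40,32,80,5,128,130,4,16],[72,48,64,3,128,2,132,16]),
  (102,[9,8,66,36,16,144,32,64],[3,132,72,2,16,64,128,48]),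
  (134,[3,72,2,132,16,128,48,64],[5,4,40,130,16,80,128,32]),
  (129,[4,32,128,1,64,2,8,16],[8,32,1,64,128,2,16,4]),
  (52,[132,135,128,180,210,144,255,130],[135,132,5,255,36,45,180,4]),
  (148,[36,45,144,4,130,128,5,210],[72,48,8,75,36,9,180,32]),
  (104,[8,9,64,40,210,80,45,66],[3,132,75,1,36,9,4,180]),
  (189,[75,72,66,255,80,210,120,64],[135,132,255,130,144,210,128,180]),
  (219,[45,40,210,9,64,66,8,80],[72,48,75,64,144,66,16,180]),
  (18,[128,132,130,144,255,210,180,135],[135,5,3,255,9,75,45,1]),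
  (176,[132,135,128,48,80,16,120,130],[135,132,5,120,32,40,48,4]),
  (20,[32,40,16,4,130,128,5,80],[72,48,8,3,4,1,132,32]),
  (96,[8,9,64,32,144,16,36,66],[3,132,72,1,32,8,4,48]),
  (246,[75,72,66,180,16,144,48,64],[135,132,120,130,16,80,128,48]),
  (153,[36,32,144,9,64,66,8,16],[72,48,3,64,128,2,16,132]),
  (56,[72,75,64,120,210,80,255,66],[135,132,255,5,36,45,4,180]),
  (88,[40,45,80,8,66,64,9,210],[72,48,75,8,36,9,32,180]),
  (112,[72,75,64,48,144,16,180,66],[135,132,120,5,32,40,4,48]),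
  (24,[32,36,16,8,66,64,9,144],[72,48,3,8,4,1,32,132])]

def L2 : List (List ℕ × List (List ℕ)) := [
  (idL,[]), ([45,255,5,9,3,1,75,135],[s2_2]), ([32,48,40,36,255,45,180,120],[s2_0]),
  ([1,2,9,5,210,45,130,66],[s2_1]), ([32,16,40,36,210,45,144,80],[s2_2,s2_2]),
  ([45,255,36,40,48,32,120,180],[s2_1,s2_2]), ([32,48,8,4,3,1,132,72],[s2_2,s2_1]),
  ([45,210,9,5,2,1,130,66],[s2_0,s2_0]), ([45,255,40,36,48,32,180,120],[s2_0,s2_1]),
  ([32,48,4,8,3,1,72,132],[s2_1,s2_0]), ([1,2,8,4,16,32,128,64],[s2_0,s2_2]),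
  ([1,2,5,9,210,45,66,130],[s2_0,s2_2,s2_1]), ([45,210,36,40,16,32,80,144],[s2_2,s2_1,s2_0]),
  ([32,48,36,40,255,45,120,180],[s2_0,s2_0,s2_2]), ([1,3,4,8,48,32,72,132],[s2_0,s2_0,s2_0]),
  ([1,3,8,4,48,32,132,72],[s2_2,s2_2,s2_2]), ([45,210,40,36,16,32,144,80],[s2_1,s2_0,s2_0]),
  ([45,255,9,5,3,1,135,75],[s2_0,s2_2,s2_2]), ([32,16,4,8,2,1,64,128],[s2_0,s2_0,s2_1]),
  ([32,16,8,4,2,1,128,64],[s2_0,s2_1,s2_2]), ([1,3,5,9,255,45,75,135],[s2_0,s2_0,s2_1,s2_2]),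
  ([45,210,5,9,2,1,66,130],[s2_0,s2_0,s2_0,s2_2]),
  ([32,16,36,40,210,45,80,144],[s2_0,s2_2,s2_2,s2_2]),
  ([1,3,9,5,255,45,135,75],[s2_0,s2_0,s2_0,s2_1])]

def W2 : List (ℕ × List (List ℕ)) := [
  (12,[]), (13,[g0]), (204,[g3]), (44,[g4]), (207,[g0,g3]), (41,[g0,g4]), (37,[g0,g5]),
  (192,[g3,g2]), (252,[g3,g4]), (194,[g0,g3,g2]), (123,[g0,g3,g4]), (183,[g0,g3,g5]),
  (33,[g0,g4,g1]), (208,[g3,g2,g4]), (82,[g0,g3,g2,g4]), (146,[g0,g3,g2,g5]), (51,[g0,g3,g4,g1]),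
  (18,[g0,g3,g2,g4,g1])]

def t2 : PtData where
  r := 12
  T := T2
  S := [s2_0, s2_1, s2_2]
  L := L2
  W := W2
  C := [([g0,g1], [g0,g1])]

theorem check2 : PtCheck (confOplus.X ++ confOplus.N ++ confOplus.M) (confOplus.X ++ confOplus.N) t2 := by
  constructor <;> decide +kernel

def s3_0 : List ℕ := [1,5,2,9,210,66,45,130]
def s3_1 : List ℕ := [1,5,9,2,210,66,130,45]

def T3 : List (ℕ × List ℕ × List ℕ) := [
  (14,idL,idL), (15,[1,2,4,9,144,36,66,128],[1,2,4,9,144,36,66,128]),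
  (206,[3,2,132,72,16,48,64,128],[3,2,132,72,16,48,64,128]),
  (174,[5,130,4,40,16,32,80,128],[5,130,4,40,16,32,80,128]),
  (110,[9,66,36,8,16,32,64,144],[9,66,36,8,16,32,64,144]),
  (205,[3,2,132,75,144,180,66,128],[3,2,132,75,144,180,66,128]),
  (171,[5,130,4,45,144,36,210,128],[5,130,4,45,144,36,210,128]),
  (103,[9,66,36,1,128,4,2,144],[8,64,32,9,144,36,66,16]),
  (195,[2,3,128,64,48,16,72,132],[3,1,132,72,32,48,8,4]),
  (126,[135,130,132,120,16,48,80,128],[135,130,132,120,16,48,80,128]),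
  (190,[75,66,180,72,16,48,64,144],[75,66,180,72,16,48,64,144]),
  (165,[4,128,5,32,80,40,16,130],[5,130,1,40,64,8,80,2]),
  (222,[45,210,36,40,16,32,80,144],[45,210,36,40,16,32,80,144]),
  (105,[8,64,32,9,144,36,66,16],[9,66,36,1,128,4,2,144]),
  (193,[2,3,128,66,180,144,75,132],[3,1,132,75,36,180,9,4]),
  (249,[135,130,132,255,144,180,210,128],[135,130,132,255,144,180,210,128]),
  (245,[75,66,180,3,128,132,2,144],[72,64,48,75,144,180,66,16]),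
  (161,[4,128,5,36,210,45,144,130],[5,130,1,45,66,9,210,2]),
  (243,[45,210,36,5,128,4,130,144],[40,80,32,45,144,36,210,16]),
  (97,[8,64,32,1,128,4,2,16],[8,64,32,1,128,4,2,16]),
  (87,[130,135,128,80,48,16,120,132],[135,5,132,120,32,48,40,4]),
  (155,[66,75,144,64,48,16,72,180],[75,9,180,72,32,48,8,36]),
  (55,[132,128,135,48,80,120,16,130],[135,130,3,120,64,72,80,2]),
  (30,[255,210,180,120,16,48,80,144],[255,210,180,120,16,48,80,144]),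
  (59,[72,64,48,75,144,180,66,16],[75,66,180,3,128,132,2,144]),
  (93,[40,32,80,45,144,210,36,16],[75,180,66,3,128,2,132,144]),
  (157,[36,144,45,32,80,40,16,210],[45,210,9,40,64,8,80,66]),
  (213,[130,135,128,210,180,144,255,132],[135,5,132,255,36,180,45,4]),
  (217,[66,75,144,2,132,128,3,180],[72,8,48,75,36,180,9,32]),
  (179,[132,128,135,180,210,255,144,130],[135,130,3,255,66,75,210,2]),
  (225,[255,210,180,135,128,132,130,144],[120,80,48,255,144,180,210,16]),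
  (115,[72,64,48,3,128,132,2,16],[72,64,48,3,128,132,2,16]),
  (117,[40,32,80,5,128,130,4,16],[72,48,64,3,128,2,132,16]),
  (185,[36,144,45,4,130,5,128,210],[40,80,8,45,66,9,210,64]),
  (22,[128,132,130,16,120,80,48,135],[135,5,3,120,8,72,40,1]),
  (63,[210,255,144,80,48,16,120,180],[255,45,180,120,32,48,40,36]),
  (26,[64,72,16,66,180,144,75,48],[75,9,180,3,4,132,1,36]),
  (28,[32,40,16,36,210,144,45,80],[75,180,9,3,4,1,132,36]),
  (95,[180,144,255,48,80,120,16,210],[255,210,75,120,64,72,80,66]),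
  (159,[120,80,48,255,144,180,210,16],[255,210,180,135,128,132,130,144]),
  (150,[128,132,130,144,255,210,180,135],[135,5,3,255,9,75,45,1]),
  (237,[210,255,144,130,132,128,135,180],[120,40,48,255,36,180,45,32]),
  (90,[64,72,16,2,132,128,3,48],[72,8,48,3,4,132,1,32]),
  (60,[32,40,16,4,130,128,5,80],[72,48,8,3,4,1,132,32]),
  (235,[180,144,255,132,130,135,128,210],[120,80,72,255,66,75,210,64]),
  (231,[120,80,48,135,128,132,130,16],[120,80,48,135,128,132,130,16]),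
  (118,[144,180,210,16,120,80,48,255],[255,45,75,120,8,72,40,9]),
  (186,[80,120,16,210,180,144,255,48],[255,45,180,135,4,132,5,36]),
  (220,[48,120,16,180,210,144,255,80],[255,180,45,135,4,5,132,36]),
  (230,[144,180,210,128,135,130,132,255],[120,40,72,255,9,75,45,8]),
  (234,[80,120,16,130,132,128,135,48],[120,40,48,135,4,132,5,32]),
  (236,[48,120,16,132,130,128,135,80],[120,48,40,135,4,5,132,32]),
  (240,[16,48,80,144,255,210,180,120],[255,45,75,135,1,3,5,9]),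
  (224,[16,48,80,128,135,130,132,120],[120,40,72,135,1,3,5,8])]

def L3 : List (List ℕ × List (List ℕ)) := [
  (idL,[]), ([1,5,9,2,210,66,130,45],[s3_1]), ([1,5,2,9,210,66,45,130],[s3_0]),
  ([1,8,3,5,120,135,40,72],[s3_1,s3_1]), ([1,3,8,5,120,40,135,72],[s3_1,s3_0]),
  ([1,3,5,8,120,40,72,135],[s3_0,s3_0]), ([1,8,5,3,120,135,72,40],[s3_0,s3_1]),
  ([1,4,3,9,180,75,36,132],[s3_0,s3_0,s3_0]), ([1,4,8,2,16,64,128,32],[s3_0,s3_0,s3_1]),
  ([1,4,9,3,180,75,132,36],[s3_1,s3_0,s3_0]), ([1,9,4,3,180,132,75,36],[s3_1,s3_1,s3_0]),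
  ([1,4,2,8,16,64,32,128],[s3_1,s3_0,s3_1]), ([1,2,8,4,16,32,128,64],[s3_0,s3_1,s3_1]),
  ([1,9,3,4,180,132,36,75],[s3_0,s3_1,s3_0]), ([1,2,5,9,210,45,66,130],[s3_1,s3_0,s3_1,s3_0]),
  ([1,8,2,4,16,128,32,64],[s3_1,s3_1,s3_0,s3_0]), ([1,9,2,5,210,130,45,66],[s3_0,s3_0,s3_1,s3_1]),
  ([1,8,4,2,16,128,64,32],[s3_0,s3_1,s3_0,s3_0]), ([1,3,9,4,180,36,132,75],[s3_1,s3_1,s3_0,s3_1]),
  ([1,2,9,5,210,45,130,66],[s3_0,s3_0,s3_1,s3_0]), ([1,3,4,9,180,36,75,132],[s3_0,s3_1,s3_0,s3_1]),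
  ([1,9,5,2,210,130,66,45],[s3_1,s3_0,s3_1,s3_1]),
  ([1,5,8,3,120,72,135,40],[s3_0,s3_0,s3_1,s3_0,s3_0]),
  ([1,5,3,8,120,72,40,135],[s3_0,s3_0,s3_1,s3_0,s3_1])]

def W3 : List (ℕ × List (List ℕ)) := [
  (14,[]), (15,[g0]), (206,[g3]), (174,[g4]), (110,[g5]), (205,[g0,g3]), (171,[g0,g4]),
  (103,[g0,g5]), (195,[g3,g2]), (126,[g3,g4]), (190,[g3,g5]), (165,[g4,g1]), (222,[g4,g5]),
  (105,[g5,g0]), (193,[g0,g3,g2]), (249,[g0,g3,g4]), (245,[g0,g3,g5]), (161,[g0,g4,g1]),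
  (243,[g0,g4,g5]), (97,[g0,g5,g0]), (87,[g3,g2,g4]), (155,[g3,g2,g5]), (55,[g3,g4,g1]),
  (30,[g3,g4,g5]), (59,[g3,g5,g0]), (157,[g4,g1,g5]), (93,[g4,g5,g0]), (213,[g0,g3,g2,g4]),
  (217,[g0,g3,g2,g5]), (179,[g0,g3,g4,g1]), (225,[g0,g3,g4,g5]), (115,[g0,g3,g5,g0]),
  (185,[g0,g4,g1,g5]), (117,[g0,g4,g5,g0]), (22,[g3,g2,g4,g1]), (63,[g3,g2,g4,g5]),
  (26,[g3,g2,g5,g0]), (95,[g3,g4,g1,g5]), (159,[g3,g4,g5,g0]), (28,[g4,g1,g5,g0]),
  (150,[g0,g3,g2,g4,g1]), (237,[g0,g3,g2,g4,g5]), (90,[g0,g3,g2,g5,g0]), (235,[g0,g3,g4,g1,g5]),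
  (231,[g0,g3,g4,g5,g0]), (60,[g0,g4,g1,g5,g0]), (118,[g3,g2,g4,g1,g5]), (186,[g3,g2,g4,g5,g0]),
  (220,[g3,g4,g1,g5,g0]), (230,[g0,g3,g2,g4,g1,g5]), (234,[g0,g3,g2,g4,g5,g0]),
  (236,[g0,g3,g4,g1,g5,g0]), (240,[g3,g2,g4,g1,g5,g0]), (224,[g0,g3,g2,g4,g1,g5,g0])]

def t3 : PtData where
  r := 14
  T := T3
  S := [s3_0, s3_1]
  L := L3
  W := W3
  C := []

theorem check3 : PtCheck (confOplus.X ++ confOplus.N ++ confOplus.M) (confOplus.X ++ confOplus.N) t3 := by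
  constructor <;> decide +kernel

theorem cover : ∀ n ∈ List.range 256, n ≠ 0 → qs (vec n) = 0 → n ∈ orb ∨ n ∈ t0.W.map (fun w => w.1) ∨ n ∈ t1.W.map (fun w => w.1) ∨ n ∈ t2.W.map (fun w => w.1) ∨ n ∈ t3.W.map (fun w => w.1) := by
  decide +kernel

/-- every conjugate of `z` in `Q` lies over a point of `orb` -/
theorem pts [Finite G] (p : Pair Q z A a) (φ : Coord p.lz) (hc : IsConf p φ confOplus) (x : Q)
    (hx : IsConj z (x : G)) (hx0 : p.lz.pr x ≠ 0) : ∃ n ∈ orb, φ.e (p.lz.pr x) = vec n := by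
  obtain ⟨n, hn, hnv⟩ := exists_code (φ.e (p.lz.pr x))
  obtain ⟨A', p', hp'⟩ := pair_of_isConj p x hx hx0
  have hq0 : qs (vec n) = 0 := by rw [← hnv, ← φ.q]; exact hp' ▸ p'.q_D p'.va_mem_D
  have hn0 : n ≠ 0 := by
    rintro rfl
    rw [vec_zero] at hnv
    exact hx0 (φ.e.map_eq_zero_iff.1 hnv)
  rcases cover n (List.mem_range.2 hn) hn0 hq0 with h1 | h1 | h1 | h1 | h1
  · exact ⟨n, h1, hnv⟩
  · exfalso
    obtain ⟨w, hw, rfl⟩ := List.mem_map.1 h1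
    exact no_pair p φ hc check0 p' ⟨w, hw, by rw [hp', hnv]⟩
  · exfalso
    obtain ⟨w, hw, rfl⟩ := List.mem_map.1 h1
    exact no_pair p φ hc check1 p' ⟨w, hw, by rw [hp', hnv]⟩
  · exfalso
    obtain ⟨w, hw, rfl⟩ := List.mem_map.1 h1
    exact no_pair p φ hc check2 p' ⟨w, hw, by rw [hp', hnv]⟩
  · exfalso
    obtain ⟨w, hw, rfl⟩ := List.mem_map.1 h1
    exact no_pair p φ hc check3 p' ⟨w, hw, by rw [hp', hnv]⟩

end Cfsg.Agent.LargeExtra.KillNine.PtsOplus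
end
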